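import Cfsg.Agent.Lib.Fi22Rep.Defs

/-!
# The checks on the matrices of degree 78

The kernel hashes numerals by their lowest bits; the basis is chosen so that the rows have no long runs of zeros.
-/

set_option autoImplicit false
set_option maxRecDepth 100000

namespace Cfsg.Lib.Fi22Rep

open Cfsg.Lib.CosetEnum

theorem rows_ok : ((List.range 9).all rowsOK) = true := by decide +kernel

theorem pairs0_ok : relsOK (Fi22Pres.numbering.pairs.take 40) = true := by decide +kernel

theorem pairs1_ok : relsOK (Fi22Pres.numbering.pairs.drop 40) = true := by decide +kernel

theorem extra0_ok : relsOK (Fi22Pres.extra.take 1) = true := by decide +kernel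

theorem extra1_ok : relsOK (Fi22Pres.extra.drop 1) = true := by decide +kernel

/-- The relators have the value of the identity. -/
theorem rels_fix (w : List ℕ) (hw : w ∈ rels) : Nat.beq (walk colMask mask one w) one = true := by
  have get : ∀ {l : List (List ℕ)}, relsOK l = true → w ∈ l → Nat.beq (walk colMask mask one w) one = true := by
    intro l h hl
    rw [relsOK, force_eq, force_eq, force_eq, List.all_eq_true] at h
    exact h w hl
  rw [rels, List.mem_append] at hw
  rcases hw with hw | hw
  · rw [← List.take_append_drop 40 Fi22Pres.numbering.pairs, List.mem_append] at hw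
    exact hw.elim (get pairs0_ok) (get pairs1_ok)
  · rw [← List.take_append_drop 1 Fi22Pres.extra, List.mem_append] at hw
    exact hw.elim (get extra0_ok) (get extra1_ok)

end Cfsg.Lib.Fi22Rep
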