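import Cfsg.Agent.Lib.Fi22Rep.Data
import Cfsg.Agent.Lib.CosetEnum.Groups.Fi22

/-!
# Matrices over the field with 13 elements packed in one number each, and the checks
-/

set_option autoImplicit false

namespace Cfsg.Lib.Fi22Rep

open Cfsg.Lib.CosetEnum

/-- Digits in one number. -/
def pk (B : Nat) : (Nat → Nat) → Nat → Nat
  | _, 0 => 0
  | f, n + 1 => f 0 + B * pk B (fun j => f (j + 1)) n

/-- The radix of an entry. -/
def W : Nat := 4294967296

/-- The radix of a row. -/
noncomputable def BR : Nat := 2 ^ 2496

/-- A matrix in one number. -/
noncomputable def pm (f : Nat → Nat → Nat) : Nat := pk BR (fun i => pk W (f i) 78) 78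

/-- The entries of the first column. -/
noncomputable def colMask : Nat := pk BR (fun _ => 4294967295) 78

/-- Fourteen low bits in every entry of a matrix. -/
noncomputable def mask : Nat := pm fun _ _ => 16383

/-- The identity matrix. -/
noncomputable def one : Nat := pm fun i j => cond (Nat.beq i j) 1 0

/-- Reduction of all entries modulo 13. -/
noncomputable def redWith (M X : Nat) : Nat :=
  X - 13 * Nat.land (Nat.shiftRight (20165 * X) 18) M

/-- The sum of the columns of a matrix times the rows. -/
noncomputable def accM (C : Nat) (rs : List Nat) : Nat → Nat → Nat :=
  List.rec (motive := fun _ => Nat → Nat → Nat) (fun _ a => a)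
    (fun r _ ih A a => force (Nat.land A C) fun c => force (Nat.shiftRight A 32) fun A' =>
      force (a + c * r) fun a' => ih A' a') rs

/-- A matrix times a generator. -/
noncomputable def stepWith (C M g A : Nat) : Nat := force (accM C (rows g) A 0) fun X => redWith M X

/-- The value of a word. -/
noncomputable def walk (C M U : Nat) (w : List Nat) : Nat :=
  List.rec (motive := fun _ => Nat) U (fun g _ ih => force ih fun A => stepWith C M g A) w

/-- A packed vector with entries below 13. -/
noncomputable def digsOK : Nat → Nat → Bool
  | 0, x => Nat.beq x 0
  | n + 1, x => force (x % W) fun c => force (x / W) fun x' => Nat.blt c 13 && digsOK n x'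

/-- The rows are packed vectors with entries below 13. -/
noncomputable def rowsOK (g : Nat) : Bool :=
  Nat.beq (rows g).length 78 && (rows g).all fun r => digsOK 78 r

/-- The words have the value of the empty word. -/
noncomputable def relsOK (ws : List (List Nat)) : Bool :=
  force colMask fun C => force mask fun M => force one fun U => ws.all fun w => Nat.beq (walk C M U w) U

/-- The relators, with the letters of the numbering. -/
noncomputable def rels : List (List Nat) := Fi22Pres.numbering.pairs ++ Fi22Pres.extra

end Cfsg.Lib.Fi22Rep
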