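import Cfsg.Agent.Lib.Fi22Rep.Defs

/-!
# The meaning of the packed operations
-/

set_option autoImplicit false

namespace Cfsg.Lib.Fi22Rep

open Finset

theorem pk_congr (B : ℕ) : ∀ (n : ℕ) {f g : ℕ → ℕ}, (∀ i < n, f i = g i) → pk B f n = pk B g n
  | 0, _, _, _ => rfl
  | n + 1, f, g, h => by
    show f 0 + B * _ = g 0 + B * _
    rw [h 0 (by omega), pk_congr B n fun i hi => h (i + 1) (by omega)]

theorem pk_add (B : ℕ) : ∀ (n : ℕ) (f g : ℕ → ℕ), pk B f n + pk B g n = pk B (fun i => f i + g i) n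
  | 0, _, _ => rfl
  | n + 1, f, g => by
    show f 0 + B * _ + (g 0 + B * _) = f 0 + g 0 + B * _
    rw [← pk_add B n (fun i => f (i + 1)) (fun i => g (i + 1))]
    ring

theorem pk_mul (B c : ℕ) : ∀ (n : ℕ) (f : ℕ → ℕ), c * pk B f n = pk B (fun i => c * f i) n
  | 0, _ => by simp [pk]
  | n + 1, f => by
    show c * (f 0 + B * _) = c * f 0 + B * _
    rw [← pk_mul B c n fun i => f (i + 1)]
    ring

theorem pk_lt {B : ℕ} : ∀ (n : ℕ) {f : ℕ → ℕ}, (∀ i < n, f i < B) → pk B f n < B ^ n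
  | 0, _, _ => by simp [pk]
  | n + 1, f, h => by
    have := pk_lt n (f := fun i => f (i + 1)) fun i hi => h (i + 1) (by omega)
    have h0 := h 0 (by omega)
    show f 0 + B * _ < _
    rw [pow_succ']
    calc f 0 + B * pk B (fun i => f (i + 1)) n < B + B * pk B (fun i => f (i + 1)) n := by omega
      _ = B * (pk B (fun i => f (i + 1)) n + 1) := by ring
      _ ≤ B * B ^ n := Nat.mul_le_mul_left _ (by omega)

theorem testBit_pk {k : ℕ} : ∀ (n : ℕ) {f : ℕ → ℕ}, (∀ i < n, f i < 2 ^ k) → ∀ i r, r < k →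
    (pk (2 ^ k) f n).testBit (k * i + r) = (decide (i < n) && (f i).testBit r)
  | 0, _, _, i, r, _ => by simp [pk]
  | n + 1, f, h, i, r, hr => by
    show (f 0 + 2 ^ k * _).testBit _ = _
    rw [add_comm, Nat.testBit_two_pow_mul_add _ (h 0 (by omega))]
    cases i with
    | zero => simp [hr]
    | succ i =>
      have e : k * (i + 1) + r - k = k * i + r := by rw [Nat.mul_succ]; omega
      rw [if_neg (by rw [Nat.mul_succ]; omega), e,
        testBit_pk n (f := fun i => f (i + 1)) (fun j hj => h (j + 1) (by omega)) i r hr]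
      simp [Nat.succ_lt_succ_iff]

theorem pick {k s : ℕ} {n : ℕ} {F M : ℕ → ℕ} (hk : 0 < k) (hs : s ≤ k) (hF : ∀ i < n, F i < 2 ^ k)
    (hM : ∀ i < n, M i < 2 ^ (k - s)) :
    (pk (2 ^ k) F n >>> s) &&& pk (2 ^ k) M n = pk (2 ^ k) (fun i => (F i >>> s) &&& M i) n := by
  have hM' : ∀ i < n, M i < 2 ^ k := fun i hi =>
    lt_of_lt_of_le (hM i hi) (Nat.pow_le_pow_right (by norm_num) (Nat.sub_le _ _))
  have hR : ∀ i < n, (F i >>> s) &&& M i < 2 ^ k := fun i hi => lt_of_le_of_lt Nat.and_le_right (hM' i hi)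
  refine Nat.eq_of_testBit_eq fun b => ?_
  have hr : b % k < k := Nat.mod_lt _ hk
  rw [← Nat.div_add_mod b k, Nat.testBit_and, Nat.testBit_shiftRight, testBit_pk n hM' _ _ hr,
    testBit_pk n hR _ _ hr, Nat.testBit_and, Nat.testBit_shiftRight]
  by_cases hi : b / k < n
  · by_cases hb : s + b % k < k
    · rw [show s + (k * (b / k) + b % k) = k * (b / k) + (s + b % k) by omega,
        testBit_pk n hF _ _ hb]
      simp [hi]
    · have : (M (b / k)).testBit (b % k) = false :=
        Nat.testBit_lt_two_pow (lt_of_lt_of_le (hM _ hi) (Nat.pow_le_pow_right (by norm_num) (by omega)))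
      simp [this, hi]
  · simp [hi]

theorem shiftRight_mask {k : ℕ} {n : ℕ} {F : ℕ → ℕ} (hk : 0 < k) {s t : ℕ} (hst : s + t ≤ k)
    (hF : ∀ i < n, F i < 2 ^ k) :
    (pk (2 ^ k) F n >>> s) &&& pk (2 ^ k) (fun _ => 2 ^ t - 1) n = pk (2 ^ k) (fun i => F i / 2 ^ s % 2 ^ t) n := by
  rw [pick hk (by omega) hF fun i _ =>
    lt_of_lt_of_le (by have := Nat.two_pow_pos t; omega) (Nat.pow_le_pow_right (by norm_num) (by omega : t ≤ k - s))]
  exact pk_congr _ _ fun i _ => by rw [Nat.and_two_pow_sub_one_eq_mod, Nat.shiftRight_eq_div_pow]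

theorem pk_div_mod {B : ℕ} : ∀ (n : ℕ) {f : ℕ → ℕ}, (∀ i < n, f i < B) → ∀ j < n,
    pk B f n / B ^ j % B = f j
  | 0, _, _, j, hj => absurd hj (Nat.not_lt_zero j)
  | n + 1, f, h, j, hj => by
    have h0 := h 0 (by omega)
    show (f 0 + B * _) / B ^ j % B = _
    cases j with
    | zero =>
      rw [pow_zero, Nat.div_one, Nat.add_mul_mod_self_left, Nat.mod_eq_of_lt h0]
    | succ j =>
      rw [pow_succ', ← Nat.div_div_eq_div_mul, Nat.add_mul_div_left _ _ (by omega : 0 < B),
        Nat.div_eq_of_lt h0, zero_add]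
      exact pk_div_mod n (fun i hi => h (i + 1) (by omega)) j (by omega)

theorem W_eq : W = 2 ^ 32 := rfl

theorem BR_eq : BR = 2 ^ 2496 := rfl

theorem row_lt {v : ℕ → ℕ} (h : ∀ j < 78, v j < 2 ^ 32) : pk W v 78 < 2 ^ 2496 := by
  have := pk_lt (B := W) 78 h
  rw [W_eq, ← pow_mul] at this
  exact this

/-- The entries of a row. -/
noncomputable def dig : ℕ → ℕ → ℕ
  | x, 0 => x % W
  | x, j + 1 => dig (x / W) j

theorem digsOK_spec : ∀ (n : ℕ) {x : ℕ}, digsOK n x = true →
    x = pk W (dig x) n ∧ ∀ j < n, dig x j < 13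
  | 0, x, h => by
    simp only [digsOK, Nat.beq_eq] at h
    exact ⟨h, fun j hj => absurd hj (Nat.not_lt_zero j)⟩
  | n + 1, x, h => by
    simp only [digsOK, Cfsg.Lib.CosetEnum.force_eq, Bool.and_eq_true, Nat.blt_eq] at h
    obtain ⟨h1, h2⟩ := digsOK_spec n h.2
    refine ⟨?_, fun j hj => ?_⟩
    · calc x = x % W + W * (x / W) := (Nat.mod_add_div x W).symm
        _ = _ := by rw [show x / W = pk W (fun j => dig x (j + 1)) n from h1]; rfl
    · cases j with
      | zero => exact h.1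
      | succ j => exact h2 j (by omega)

theorem pk_zero (B : ℕ) : ∀ n, pk B (fun _ => 0) n = 0
  | 0 => rfl
  | n + 1 => by show 0 + B * pk B (fun _ => 0) n = 0; rw [pk_zero B n, mul_zero, add_zero]

theorem accM_nil (C A a : ℕ) : accM C [] A a = a := rfl

theorem accM_cons (C r : ℕ) (rs : List ℕ) (A a : ℕ) :
    accM C (r :: rs) A a = accM C rs (A >>> 32) (a + (A &&& C) * r) := by
  simp only [accM, Cfsg.Lib.CosetEnum.force_eq]
  rfl

theorem div13 {d : ℕ} (h : d < 2 ^ 14) : 20165 * d / 2 ^ 18 % 2 ^ 14 = d / 13 := by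
  have e : d = 13 * (d / 13) + d % 13 := (Nat.div_add_mod d 13).symm
  have e1 : 20165 * d / 2 ^ 18 = d / 13 := by
    apply Nat.div_eq_of_lt_le
    · omega
    · omega
  rw [e1, Nat.mod_eq_of_lt (by omega)]

theorem mask14 : pk W (fun _ => 16383) 78 < 2 ^ (2496 - 18) := by decide +kernel

attribute [local irreducible] pk accM

/-- An entry of a generator. -/
noncomputable def ent (g l j : ℕ) : ℕ := dig ((rows g).getD l 0) j

/-- The product with a generator, before reduction. -/
noncomputable def prodE (f : ℕ → ℕ → ℕ) (g i j : ℕ) : ℕ := ∑ l ∈ range 78, f i l * ent g l j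

theorem accM_spec {f : ℕ → ℕ → ℕ} (hf : ∀ i < 78, ∀ j < 78, f i j < 13) :
    ∀ (rs : List ℕ) (s : ℕ), s + rs.length ≤ 78 → ∀ a : ℕ → ℕ,
      accM colMask rs (pm f >>> (32 * s)) (pk BR a 78) =
        pk BR (fun i => a i + ∑ l ∈ range rs.length, f i (s + l) * rs.getD l 0) 78
  | [], _, _, a => by
    rw [accM_nil]
    exact pk_congr _ _ fun i _ => by simp
  | r :: rs, s, hs, a => by
    rw [List.length_cons] at hs
    have hb : ∀ i < 78, ∀ j < 78, f i j < 2 ^ 32 := fun i hi j hj => lt_trans (hf i hi j hj) (by norm_num)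
    have hcol : pm f >>> (32 * s) &&& colMask = pk BR (fun i => f i s) 78 := by
      rw [pm, colMask, BR_eq, show (4294967295 : ℕ) = 2 ^ 32 - 1 by norm_num,
        shiftRight_mask (by norm_num) (by omega) fun i hi => row_lt (hb i hi)]
      refine pk_congr _ _ fun i hi => ?_
      rw [show 2 ^ (32 * s) = W ^ s by rw [W_eq, ← pow_mul]]
      exact pk_div_mod (B := W) 78 (hb i hi) s (by omega)
    rw [accM_cons, hcol, mul_comm _ r, pk_mul, pk_add, ← Nat.shiftRight_add,
      show 32 * s + 32 = 32 * (s + 1) by ring, accM_spec hf rs (s + 1) (by omega)]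
    refine pk_congr _ _ fun i _ => ?_
    rw [List.length_cons, Finset.sum_range_succ']
    simp only [List.getD_cons_succ, List.getD_cons_zero, Nat.add_zero,
      fun l => show s + 1 + l = s + (l + 1) by omega]
    ring

theorem step_spec {g : ℕ} (hg : rowsOK g = true) {f : ℕ → ℕ → ℕ} (hf : ∀ i < 78, ∀ j < 78, f i j < 13) :
    stepWith colMask mask g (pm f) = pm fun i j => prodE f g i j % 13 := by
  simp only [rowsOK, Bool.and_eq_true, Nat.beq_eq, List.all_eq_true] at hg
  obtain ⟨hlen, hrow⟩ := hg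
  have hmem : ∀ l < 78, (rows g).getD l 0 ∈ rows g := fun l hl => by
    rw [List.getD_eq_getElem _ _ (by omega)]; exact List.getElem_mem _
  have hr : ∀ l < 78, (rows g).getD l 0 = pk W (ent g l) 78 ∧ ∀ j < 78, ent g l j < 13 := fun l hl =>
    digsOK_spec 78 (hrow _ (hmem l hl))
  have hP : ∀ i < 78, ∀ j < 78, prodE f g i j < 2 ^ 14 := fun i hi j hj => by
    refine lt_of_le_of_lt (Finset.sum_le_card_nsmul _ _ 144 fun l hl => ?_) (by norm_num)
    rw [Finset.mem_range] at hl
    exact Nat.mul_le_mul (Nat.le_of_lt_succ (hf i hi l hl)) (Nat.le_of_lt_succ ((hr l hl).2 j hj))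
  have hacc : accM colMask (rows g) (pm f) 0 = pm (prodE f g) := by
    have := accM_spec hf (rows g) 0 (by omega) (fun _ => 0)
    rw [mul_zero, Nat.shiftRight_zero, pk_zero] at this
    rw [this, pm]
    refine pk_congr _ _ fun i hi => ?_
    rw [hlen, zero_add]
    have hsum : ∀ n ≤ 78, (∑ l ∈ range n, f i (0 + l) * (rows g).getD l 0) =
        pk W (fun j => ∑ l ∈ range n, f i l * ent g l j) 78 := by
      intro n hn
      induction n with
      | zero => simp [pk_zero]
      | succ n ih =>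
        rw [Finset.sum_range_succ, ih (by omega), zero_add, (hr n (by omega)).1, pk_mul, pk_add]
        exact pk_congr _ _ fun j _ => (Finset.sum_range_succ _ _).symm
    exact hsum 78 le_rfl
  rw [stepWith, Cfsg.Lib.CosetEnum.force_eq, hacc, redWith]
  have hshift : Nat.land (Nat.shiftRight (20165 * pm (prodE f g)) 18) mask =
      pm fun i j => prodE f g i j / 13 := by
    show (20165 * pm (prodE f g)) >>> 18 &&& mask = _
    rw [mask, pm, pm, pm, pk_mul, pk_congr BR 78 (fun i _ => pk_mul W 20165 78 _), BR_eq]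
    have hb : ∀ i < 78, ∀ j < 78, 20165 * prodE f g i j < 2 ^ 32 := fun i hi j hj => by
      have := hP i hi j hj; omega
    rw [pick (by norm_num) (by norm_num) (fun i hi => row_lt (hb i hi)) (fun _ _ => mask14)]
    refine pk_congr _ _ fun i hi => ?_
    rw [W_eq, show (16383 : ℕ) = 2 ^ 14 - 1 by norm_num]
    rw [shiftRight_mask (by norm_num) (by norm_num) (hb i hi)]
    refine pk_congr _ _ fun j hj => ?_
    exact div13 (hP i hi j hj)
  have hsum : pm (fun i j => prodE f g i j % 13) + 13 * pm (fun i j => prodE f g i j / 13) = pm (prodE f g) := by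
    rw [pm, pm, pk_mul, pk_add]
    refine pk_congr _ _ fun i _ => ?_
    rw [pk_mul, pk_add]
    exact pk_congr _ _ fun j _ => Nat.mod_add_div _ _
  rw [hshift]
  omega

theorem pm_entry {f : ℕ → ℕ → ℕ} (hf : ∀ i < 78, ∀ j < 78, f i j < 13) {i j : ℕ} (hi : i < 78) (hj : j < 78) :
    pm f / BR ^ i % BR / W ^ j % W = f i j := by
  have hb : ∀ i < 78, ∀ j < 78, f i j < 2 ^ 32 := fun i hi j hj => lt_trans (hf i hi j hj) (by norm_num)
  rw [pm, pk_div_mod (B := BR) 78 (fun i hi => BR_eq ▸ row_lt (hb i hi)) i hi]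
  exact pk_div_mod (B := W) 78 (hb i hi) j hj

end Cfsg.Lib.Fi22Rep
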