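import Cfsg.Agent.Lib.Fi22Rep.Check
import Cfsg.Agent.Lib.Fi22Rep.Pack
import Cfsg.Agent.Lib.CosetEnum.Groups.Fi22Simple

/-!
# The representation of degree 78 of `Fi22` over the field with 13 elements
-/

set_option autoImplicit false

namespace Cfsg.Lib.Fi22Rep

open Cfsg.Lib.CosetEnum

/-- The matrix of a family of entries. -/
def toM (f : ℕ → ℕ → ℕ) : Matrix (Fin 78) (Fin 78) (ZMod 13) := Matrix.of fun i j => (f i j : ZMod 13)

/-- The matrix of a generator. -/
noncomputable def genM (g : ℕ) : Matrix (Fin 78) (Fin 78) (ZMod 13) := toM (ent g)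

theorem gen_rows {g : ℕ} (hg : g < 9) : rowsOK g = true := List.all_eq_true.1 rows_ok g (List.mem_range.2 hg)

/-- The value of a word. -/
noncomputable def wordM (w : List ℕ) : Matrix (Fin 78) (Fin 78) (ZMod 13) :=
  w.foldr (fun g M => M * genM g) 1

theorem toM_one : toM (fun i j => cond (Nat.beq i j) 1 0) = 1 := by
  ext i j
  simp only [toM, Matrix.of_apply, Matrix.one_apply]
  by_cases h : i = j
  · subst h; simp
  · have : Nat.beq (i : ℕ) (j : ℕ) = false :=
      Bool.eq_false_iff.2 fun e => h (Fin.ext (Nat.eq_of_beq_eq_true e))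
    simp [this, h]

theorem walk_spec : ∀ (w : List ℕ), (∀ g ∈ w, g < 9) →
    ∃ f : ℕ → ℕ → ℕ, (∀ i < 78, ∀ j < 78, f i j < 13) ∧ walk colMask mask one w = pm f ∧ toM f = wordM w
  | [], _ => ⟨fun i j => cond (Nat.beq i j) 1 0, fun i _ j _ => by
      show cond (Nat.beq i j) 1 0 < 13
      cases Nat.beq i j <;> simp, rfl, toM_one⟩
  | g :: w, h => by
    obtain ⟨f, hf, hw, hM⟩ := walk_spec w fun x hx => h x (List.mem_cons_of_mem _ hx)
    have hg := gen_rows (h g (List.mem_cons_self ..))
    refine ⟨fun i j => prodE f g i j % 13, fun _ _ _ _ => Nat.mod_lt _ (by norm_num), ?_, ?_⟩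
    · show force (walk colMask mask one w) (fun A => stepWith colMask mask g A) = _
      rw [force_eq, hw, step_spec hg hf]
    · show _ = wordM w * genM g
      rw [← hM]
      ext i j
      simp only [toM, genM, Matrix.of_apply, Matrix.mul_apply, ZMod.natCast_mod, prodE, Nat.cast_sum, Nat.cast_mul]
      exact (Fin.sum_univ_eq_sum_range (fun l => (f i l : ZMod 13) * (ent g l j : ZMod 13)) 78).symm

theorem wordM_eq_one {w : List ℕ} (hw : ∀ g ∈ w, g < 9) (h : Nat.beq (walk colMask mask one w) one = true) :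
    wordM w = 1 := by
  obtain ⟨f, hf, e, eM⟩ := walk_spec w hw
  have e' : pm f = one := e.symm.trans (Nat.eq_of_beq_eq_true h)
  rw [← eM, ← toM_one]
  ext i j
  simp only [toM, Matrix.of_apply]
  have h1 := pm_entry hf i.isLt j.isLt
  rw [e', one, pm_entry (f := fun i j => cond (Nat.beq i j) 1 0) (fun i _ j _ => by
    cases Nat.beq i j <;> simp) i.isLt j.isLt] at h1
  rw [← h1]

theorem rels_letters : (rels.all fun w => w.all fun g => Nat.blt g 9) = true := by decide +kernel

theorem rel_eq_one {w : List ℕ} (hw : w ∈ rels) : (∀ g ∈ w, g < 9) ∧ wordM w = 1 := by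
  have hl := rels_letters
  simp only [List.all_eq_true, Nat.blt_eq] at hl
  refine ⟨hl w hw, wordM_eq_one (hl w hw) ?_⟩
  exact rels_fix w hw

theorem self_mem (g : ℕ) (hg : g < 9) : [g, g] ∈ rels := by
  refine List.mem_append_left _ ?_
  simp only [Numbering.pairs, List.mem_flatMap, List.mem_map, List.mem_range]
  refine ⟨g, hg, g, hg, ?_⟩
  rw [coxLabel_self]
  rfl

theorem genM_sq (g : ℕ) (hg : g < 9) : genM g * genM g = 1 := by
  simpa [wordM] using (rel_eq_one (self_mem g hg)).2

/-- The unit of a generator. -/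
noncomputable def yU (g : ℕ) : GL (Fin 78) (ZMod 13) :=
  if h : g < 9 then ⟨genM g, genM g, genM_sq g h, genM_sq g h⟩ else 1

theorem yU_sq (g : ℕ) : yU g * yU g = 1 := by
  unfold yU
  split
  · rename_i h
    exact Units.ext (genM_sq g h)
  · exact one_mul 1

theorem wordVal_yU : ∀ (w : List ℕ), (∀ g ∈ w, g < 9) → ((wordVal yU w : GL (Fin 78) (ZMod 13)) : Matrix (Fin 78) (Fin 78) (ZMod 13)) = wordM w
  | [], _ => rfl
  | g :: w, h => by
    have hg : g < 9 := h g (List.mem_cons_self ..)
    rw [wordVal, Units.val_mul, wordVal_yU w fun x hx => h x (List.mem_cons_of_mem _ hx)]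
    show _ = wordM w * genM g
    rw [gen, if_neg (by unfold eps; omega), yU, dif_pos hg]

theorem genM_ne : genM 0 ≠ 1 := fun h => by
  have h1 := congrFun (congrFun h 0) 0
  simp only [genM, toM, Matrix.of_apply, Matrix.one_apply_eq] at h1
  have h2 : ent 0 0 0 = 6 := by decide +kernel
  rw [show ((0 : Fin 78) : ℕ) = 0 from rfl, h2] at h1
  exact absurd h1 (by decide)

theorem exists_hom : ∃ f : Cfsg.Spor.Fi22 →* GL (Fin 78) (ZMod 13), Function.Injective f := by
  have hk : Fi22Pres.numbering.k ≤ eps := by decide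
  have hrel : ∀ r ∈ Fi22Pres.numbering.pairs ++ Fi22Pres.extra, wordVal yU r = 1 := fun r hr =>
    Units.ext ((wordVal_yU r (rel_eq_one hr).1).trans (rel_eq_one hr).2)
  have h := Fi22Pres.numbering.lift_eq_one hk yU (Fi22Pres.map_extra yU yU_sq) hrel
  refine ⟨PresentedGroup.toGroup h, ?_⟩
  have := Fi22Pres.isFi22.1
  rw [← MonoidHom.ker_eq_bot_iff]
  refine (IsSimpleGroup.eq_bot_or_eq_top_of_normal _ inferInstance).resolve_right fun hker => ?_
  have h1 : yU 0 = 1 := by
    have := MonoidHom.mem_ker.1 (hker ▸ Subgroup.mem_top (PresentedGroup.of Cfsg.Spor.Fi22.Gen.a) :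
      PresentedGroup.of Cfsg.Spor.Fi22.Gen.a ∈ (PresentedGroup.toGroup h).ker)
    rwa [PresentedGroup.toGroup.of] at this
  have h2 := congrArg (fun u : GL (Fin 78) (ZMod 13) => (u : Matrix (Fin 78) (Fin 78) (ZMod 13))) h1
  simp only [yU, Nat.ofNat_pos, dif_pos, Units.val_one] at h2
  exact genM_ne h2

end Cfsg.Lib.Fi22Rep
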